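import Cfsg.Agent.KFacts.Baby.Inst
import Cfsg.Agent.KFacts.Baby.Fix
import Cfsg.Agent.OddHalf.D4.Spor.LargeSyl

/-!
# D4, sporadic components, the Baby Monster: a Sylow subgroup fixing the class of `x₀` (helper865)

The letters `y1, …, y10` generate modulo `Q` an elementary abelian group, so `E = ⟨y1, …, y10⟩ Q` is a 2-group; its
only fixed vector on `Q/⟨z⟩` is `x₀ = Z_10` (helper235, `KFacts/Baby/Fix.lean`).
-/

set_option autoImplicit false

namespace Cfsg.Agent.OddHalf.D4.Spor.Baby.Syl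

open Cfsg.Agent.Monster Cfsg.Agent.Monster.VecEngine Cfsg.Agent.Monster.VecSpace
open Cfsg.Agent.Monster.PauliBasic Cfsg.Agent.Monster.PauliRep Cfsg.Agent.Monster.PauliClif Cfsg.Agent.Monster.PauliBits
open Cfsg.Agent.BabyM Cfsg.Agent.BabyM.QAct Cfsg.Agent.BabyM.QData Cfsg.Agent.BabyM.KRowData Cfsg.Agent.BabyM.Model
open Cfsg.Agent.BabyM.Conc Cfsg.Agent.BabyM.KTab Cfsg.Agent.BabyM.KRow Cfsg.Agent.BabyM.KQ
open Cfsg.Agent.KFacts.AutLarge Cfsg.Agent.KFacts.Baby.Fix Cfsg.Agent.BabyU.ClosLane Cfsg.Agent.BabyU.ClosModel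
open Cfsg.Agent.Co2Type.Quad

/-! ### the letters modulo `Q` -/

/-- one step, on the classes -/
noncomputable def stp (I m : ℕ) : ℕ := Nat.land (wfold (im I) m pos 0) 0x3fffff

/-- the code `m` is the product of its generators -/
noncomputable def okc (m : ℕ) : Bool := Nat.beq (wfold (fun k => 2 ^ k) m pos 0) m

theorem act_stp {l : ℕ} (hl : l < 10) {m : ℕ} (h : okc m = true) : Act (E (yl l)) m (stp (II l) m) :=
  act_of (rel l hl) (by
    unfold stepOK
    rw [Bool.and_eq_true]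
    exact ⟨h, Nat.beq_refl _⟩)

/-- the kernel check -/
noncomputable def chk (l m k : ℕ) : Bool :=
  and (and (okc (2 ^ k)) (and (okc (stp (II m) (2 ^ k))) (okc (stp (II l) (2 ^ k)))))
    (Nat.beq (stp (II l) (stp (II m) (2 ^ k))) (stp (II m) (stp (II l) (2 ^ k))))

theorem chk_ok : ∀ l < 10, ∀ m < 10, ∀ k < 22, chk l m k = true := by decide +kernel

theorem sq_ok : ∀ l < 10, ∀ k < 22, Nat.beq (stp (II l) (stp (II l) (2 ^ k))) (2 ^ k) = true := by decide +kernel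

theorem act_comm {l m : ℕ} (hl : l < 10) (hm : m < 10) {k : ℕ} (hk : k < 22) :
    ∃ n, Act (E (yl l) * E (yl m)) (2 ^ k) n ∧ Act (E (yl m) * E (yl l)) (2 ^ k) n := by
  have h := chk_ok l hl m hm k hk
  unfold chk at h
  rw [Bool.and_eq_true, Bool.and_eq_true, Bool.and_eq_true] at h
  obtain ⟨⟨h1, h2, h3⟩, h4⟩ := h
  have h5 := Nat.eq_of_beq_eq_true h4
  refine ⟨_, (act_stp hl h2).mul (act_stp hm h1), ?_⟩
  rw [h5]
  exact (act_stp hm h3).mul (act_stp hl h1)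

theorem act_sq {l : ℕ} (hl : l < 10) {k : ℕ} (hk : k < 22) : Act (E (yl l) * E (yl l)) (2 ^ k) (2 ^ k) := by
  have h := chk_ok l hl l hl k hk
  unfold chk at h
  rw [Bool.and_eq_true, Bool.and_eq_true, Bool.and_eq_true] at h
  obtain ⟨⟨h1, h2, -⟩, -⟩ := h
  have h5 := Nat.eq_of_beq_eq_true (sq_ok l hl k hk)
  have h6 := (act_stp hl h2).mul (act_stp hl h1)
  rwa [h5] at h6

/-- an element of `C` acting trivially on the classes of the generators lies in `Q` -/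
theorem mem_Q_of {g : V ≃ₗ[ℚ] V} (hg : g ∈ Inst.M.C)
    (h : ∀ k < 22, g * Cd.R (dec 11 (2 ^ k)) * g⁻¹ = Cd.R (dec 11 (2 ^ k)) ∨
      g * Cd.R (dec 11 (2 ^ k)) * g⁻¹ = Cd.R (dec 11 (2 ^ k)) * Inst.M.z) : g ∈ Inst.M.Q := by
  have hfin := A.finite_G
  let H : Subgroup (Pauli 11) :=
    { carrier := {x | g * Cd.R x * g⁻¹ = Cd.R x ∨ g * Cd.R x * g⁻¹ = Cd.R x * Inst.M.z}
      one_mem' := Or.inl (by rw [map_one]; group)
      mul_mem' := by
        intro x y hx hy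
        have e : g * Cd.R (x * y) * g⁻¹ = (g * Cd.R x * g⁻¹) * (g * Cd.R y * g⁻¹) := by rw [map_mul]; group
        show _ ∨ _
        rw [e, map_mul]
        rcases hx with hx | hx <;> rcases hy with hy | hy
        · left; rw [hx, hy]
        · right; rw [hx, hy, mul_assoc]
        · right; rw [hx, hy, mul_assoc, ← comm_z, ← mul_assoc]
        · left
          rw [hx, hy, mul_assoc (Cd.R x), ← mul_assoc Inst.M.z, ← comm_z, mul_assoc (Cd.R y), A.grp.z_sq, mul_one]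
      inv_mem' := by
        intro x hx
        have e : g * Cd.R x⁻¹ * g⁻¹ = (g * Cd.R x * g⁻¹)⁻¹ := by rw [map_inv]; group
        show _ ∨ _
        rw [e, map_inv]
        rcases hx with hx | hx
        · left; rw [hx]
        · right
          rw [hx, mul_inv_rev, inv_eq_of_mul_eq_one_left A.grp.z_sq, ← map_inv, comm_z] }
  have hH : H = ⊤ := by
    rw [eq_top_iff, ← closure_gens, Subgroup.closure_le]
    rintro x ⟨k, hk, rfl⟩
    exact h k hk
  have hall : ∀ x : Pauli 11, g * Cd.R x * g⁻¹ = Cd.R x ∨ g * Cd.R x * g⁻¹ = Cd.R x * Inst.M.z := fun x => by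
    have : x ∈ H := by rw [hH]; exact Subgroup.mem_top x
    exact this
  have L := KFacts.Baby.Inst.large A
  have hgz : (⟨g, A.C_le_G hg⟩ : Inst.M.G) * zz A = zz A * ⟨g, A.C_le_G hg⟩ := Subtype.ext (A.grp.z_comm g hg)
  have hact : L.act ⟨⟨g, A.C_le_G hg⟩, Subgroup.mem_centralizer_singleton_iff.2 hgz⟩ = 1 := by
    ext v
    obtain ⟨x, rfl⟩ := L.pr_surjective v
    obtain ⟨y, hy⟩ := KLink.link.mem_Q.1 (mem_PP.1 x.2)
    rw [L.act_pr]
    show L.pr _ = L.pr x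
    rw [L.pr_eq_pr]
    have h1 := hall y
    rw [hy] at h1
    exact h1.imp (fun e => Subtype.ext e) (fun e => Subtype.ext e)
  exact mem_PP.1 (L.mem_of_act _ hact)

theorem eqz_act {g : V ≃ₗ[ℚ] V} {m n : ℕ} (h : Act g m n) :
    g * Cd.R (dec 11 m) * g⁻¹ = Cd.R (dec 11 n) ∨ g * Cd.R (dec 11 m) * g⁻¹ = Cd.R (dec 11 n) * Inst.M.z := by
  obtain ⟨y, hy, e⟩ := h (dec 11 m) rfl
  rw [e]
  exact eq_or_of_ab hy

theorem comm_mem {l m : ℕ} (hl : l < 10) (hm : m < 10) :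
    (E (yl m) * E (yl l))⁻¹ * (E (yl l) * E (yl m)) ∈ Inst.M.Q := by
  have h1 := mul_mem (yl_mem l hl) (yl_mem m hm)
  have h2 := mul_mem (yl_mem m hm) (yl_mem l hl)
  refine mem_Q_of (mul_mem (inv_mem h2) h1) fun k hk => ?_
  obtain ⟨n, a1, a2⟩ := act_comm hl hm hk
  obtain ⟨u, hu, e1⟩ := a1 (dec 11 (2 ^ k)) rfl
  obtain ⟨w, hw, e2⟩ := a2 (dec 11 (2 ^ k)) rfl
  set a := E (yl l) * E (yl m)
  set b := E (yl m) * E (yl l)
  have e3 : (b⁻¹ * a) * Cd.R (dec 11 (2 ^ k)) * (b⁻¹ * a)⁻¹ = b⁻¹ * (a * Cd.R (dec 11 (2 ^ k)) * a⁻¹) * b := by group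
  have e4 : b⁻¹ * Cd.R w * b = Cd.R (dec 11 (2 ^ k)) := by rw [← e2]; group
  rw [e3, e1]
  rcases eq_or_of_ab (hu.trans hw.symm) with e | e
  · left; rw [e, e4]
  · right
    have e5 : b⁻¹ * (Cd.R w * Inst.M.z) * b = (b⁻¹ * Cd.R w * b) * (b⁻¹ * Inst.M.z * b) := by group
    have e6 : b⁻¹ * Inst.M.z * b = Inst.M.z := by
      rw [mul_assoc, ← A.grp.z_comm b h2, ← mul_assoc, inv_mul_cancel, one_mul]
    rw [e, e5, e4, e6]

theorem sq_mem {l : ℕ} (hl : l < 10) : E (yl l) * E (yl l) ∈ Inst.M.Q :=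
  mem_Q_of (mul_mem (yl_mem l hl) (yl_mem l hl)) fun _ hk => eqz_act (act_sq hl hk)

/-! ### the 2-group -/

/-- the letters, in `C_K(z)` -/
noncomputable def yc (l : Fin 10) : Subgroup.centralizer ({zz A} : Set Inst.M.G) :=
  ⟨⟨E (yl l), A.C_le_G (yl_mem l l.2)⟩, (KFacts.Baby.Inst.mem_cen A).2 (yl_mem l l.2)⟩

theorem syl : ∃ S : Sylow 2 Inst.M.G, (∀ s ∈ S, s * zz A = zz A * s) ∧
    ∀ s ∈ S, Eqz (zz A) (s * (⟨x₀, A.C_le_G (KLink.link.Q_le x₀_mem)⟩ : Inst.M.G) * s⁻¹)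
      ⟨x₀, A.C_le_G (KLink.link.Q_le x₀_mem)⟩ := by
  have hfin := A.finite_G
  have L := KFacts.Baby.Inst.large A
  obtain ⟨π, hπs, hπ⟩ := KFacts.Baby.Inst.quot A
  -- the images of the letters
  let G₀ : Set GroupInst.K₀ := Set.range fun l : Fin 10 => π (yc l)
  have hc : ∀ x ∈ G₀, ∀ y ∈ G₀, x * y = y * x := by
    rintro _ ⟨l, rfl⟩ _ ⟨m, rfl⟩
    have h1 : π ((yc m * yc l)⁻¹ * (yc l * yc m)) = 1 := by
      rw [hπ]
      exact mem_PP.2 (comm_mem l.2 m.2)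
    rw [map_mul, map_inv, inv_mul_eq_one, map_mul, map_mul] at h1
    exact h1.symm
  have hs : ∀ x ∈ G₀, x * x = 1 := by
    rintro _ ⟨l, rfl⟩
    have h1 : π (yc l * yc l) = 1 := by
      rw [hπ]
      exact mem_PP.2 (sq_mem l.2)
    rwa [map_mul] at h1
  have h1 : Subgroup.closure G₀ ≤ Subgroup.centralizer G₀ := by
    rw [Subgroup.closure_le]
    intro x hx
    rw [SetLike.mem_coe, Subgroup.mem_centralizer_iff]
    exact fun y hy => hc y hy x hx
  have h2 : ∀ x ∈ Subgroup.closure G₀, ∀ y ∈ Subgroup.closure G₀, x * y = y * x := by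
    intro x hx y hy
    have h3 : G₀ ⊆ Subgroup.centralizer ({x} : Set GroupInst.K₀) := fun g hg => by
      rw [SetLike.mem_coe, Subgroup.mem_centralizer_singleton_iff]
      exact Subgroup.mem_centralizer_iff.1 (h1 hx) g hg
    exact (Subgroup.mem_centralizer_singleton_iff.1 (((Subgroup.closure_le _).2 h3) hy)).symm
  have h3 : ∀ x ∈ Subgroup.closure G₀, x * x = 1 := by
    intro x hx
    induction hx using Subgroup.closure_induction with
    | mem x hx => exact hs x hx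
    | one => rw [one_mul]
    | mul x y hx hy ihx ihy =>
      calc x * y * (x * y) = x * (y * x) * y := by group
        _ = x * (x * y) * y := by rw [h2 x hx y hy]
        _ = (x * x) * (y * y) := by group
        _ = 1 := by rw [ihx, ihy, one_mul]
    | inv x hx ih => rw [← mul_inv_rev, ih, inv_one]
  have h4 : IsPGroup 2 (Subgroup.closure G₀) := by
    intro x
    refine ⟨1, Subtype.ext ?_⟩
    show (x : GroupInst.K₀) ^ 2 ^ 1 = 1
    rw [pow_one, pow_two]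
    exact h3 x x.2
  have h5 : IsPGroup 2 π.ker := by
    intro x
    refine ⟨2, Subtype.ext (Subtype.ext ?_)⟩
    have hx : (((x : Subgroup.centralizer ({zz A} : Set Inst.M.G)) : Inst.M.G)) ∈ PP Inst.M := (hπ _).1 x.2
    show ((x : Subgroup.centralizer ({zz A} : Set Inst.M.G)) : Inst.M.G) ^ 2 ^ 2 = 1
    rw [show (2 : ℕ) ^ 2 = 2 + 2 by norm_num, pow_add, pow_two]
    rcases L.sq _ hx with e | e
    · rw [e, one_mul]
    · rw [e, L.z_sq]
  have h6 : IsPGroup 2 ((Subgroup.closure G₀).comap π) := h4.comap_of_ker_isPGroup π h5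
  have h7 := h6.map (Subgroup.centralizer ({zz A} : Set Inst.M.G)).subtype
  refine LargeSyl.exists_sylow_fix L h7 ?_ ⟨⟨x₀, A.C_le_G (KLink.link.Q_le x₀_mem)⟩, mem_PP.2 x₀_mem,
    fun e => x₀_ne (congrArg Subtype.val e), fun e => x₀_ne_z (congrArg Subtype.val e)⟩ ?_
  · intro q hq
    have hqz : q ∈ Subgroup.centralizer ({zz A} : Set Inst.M.G) :=
      Subgroup.mem_centralizer_singleton_iff.2 (L.comm_z q hq)
    refine ⟨⟨q, hqz⟩, ?_, rfl⟩
    show π ⟨q, hqz⟩ ∈ Subgroup.closure G₀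
    rw [(hπ ⟨q, hqz⟩).2 hq]
    exact Subgroup.one_mem _
  · intro y hy hfx
    obtain ⟨Y, hY⟩ := KLink.link.mem_Q.1 (mem_PP.1 hy)
    have hl : ∀ l < 10, E (yl l) * Cd.R Y * (E (yl l))⁻¹ = Cd.R Y ∨
        E (yl l) * Cd.R Y * (E (yl l))⁻¹ = Cd.R Y * Inst.M.z := by
      intro l hl
      have h8 := hfx ((yc ⟨l, hl⟩ : Subgroup.centralizer ({zz A} : Set Inst.M.G)) : Inst.M.G)
        ⟨yc ⟨l, hl⟩, Subgroup.subset_closure ⟨⟨l, hl⟩, rfl⟩, rfl⟩
      rw [hY]
      exact h8.imp (fun e => congrArg Subtype.val e) (fun e => congrArg Subtype.val e)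
    rcases ab_of_form Y (fun i hi => form_two_pow Y (fun l hl' k hk => form_of_fix hl' (hl l hl') hk) hi) with h9 | h9
    · left
      have h10 := eq_or_of_ab (Y := Y) (Y' := 1) (by rw [h9]; rfl)
      rw [map_one, hY] at h10
      exact h10.imp (fun e => Subtype.ext e) (fun e => Subtype.ext e)
    · right
      have h10 := eq_or_of_ab h9
      rw [hY] at h10
      exact h10.imp (fun e => Subtype.ext e) (fun e => Subtype.ext e)

end Cfsg.Agent.OddHalf.D4.Spor.Baby.Syl
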