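import Cfsg.Agent.KFacts.Baby.Row
import Cfsg.Agent.OddHalf.D4.Spor.LargeSheet
import Cfsg.Agent.OddHalf.D4.Spor.Baby.Syl
import Cfsg.Agent.OddHalf.D4.Spor.BabyR

/-!
# D4, sporadic components: the sheet of the Baby Monster (helper865)

`sheet_model` : the sheet of the model; `sheet_of_isoB` : the sheet of a simple group isomorphic to `B`; `sheet_B` : the
sheet of `Spor.BabyMonster`. Inputs: `Inner` (`Out(Co2) = 1`), `NoTriple l₀` (the lattice fact behind (LQ)).
-/

set_option autoImplicit false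

namespace Cfsg.Agent.OddHalf.D4.Spor.Baby

open Cfsg Cfsg.Agent.BabyM Cfsg.Agent.BabyM.Model Cfsg.Agent.BabyU.ClosModel Cfsg.Agent.BabyU.ClosLane
open Cfsg.Agent.KFacts.AutLarge Cfsg.Agent.KFacts.Baby Cfsg.Agent.KFacts.Baby.Fix Cfsg.Agent.BabyM.Conc
open Cfsg.Agent.BabyM.CoTwoMod Cfsg.Agent.BabyM.Co2GenStd

/-- the model has no subgroup of index 2 -/
theorem index_ne_two (H : Subgroup Inst.M.G) : H.index ≠ 2 := by
  intro h2
  have := Instance.all.simple
  have hn : H.Normal := Subgroup.normal_of_index_eq_two h2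
  rcases hn.eq_bot_or_eq_top with h | h
  · subst h
    rw [Subgroup.index_bot, A.card_G] at h2
    norm_num at h2
  · subst h
    rw [Subgroup.index_top] at h2
    norm_num at h2

theorem tau_eq : Inst.M.τ * Inst.M.z * Inst.M.τ⁻¹ = x₀ := KFacts.Baby.Inst.z'_eq

/-- **The sheet of the model.** -/
theorem sheet_model (hi : KFacts.Baby.Sheet.Inner) (hn : BabyHyp.NoTriple l₀) : Spor.Sheet Inst.M.G := by
  have := A.finite_G
  obtain ⟨S, hS, hSx⟩ := Syl.syl
  refine LargeSheet.sheet_of_data (KFacts.Baby.Sheet.data hi KFacts.Baby.Row.fix) (BabyR.hypR_of hn) index_ne_two hS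
    (x₀ := ⟨x₀, A.C_le_G (KLink.link.Q_le x₀_mem)⟩) (mem_PP.2 x₀_mem) (fun e => x₀_ne_z (congrArg Subtype.val e))
    ⟨⟨Inst.M.τ, A.τ_mem_G⟩, Subtype.ext tau_eq⟩ hSx

/-- **The sheet of a simple group isomorphic to the Baby Monster.** -/
theorem sheet_of_isoB (hi : KFacts.Baby.Sheet.Inner) (hn : BabyHyp.NoTriple l₀) {X : Type*} [Group X]
    [IsSimpleGroup X] (h : Cfsg.Spor.IsoB X) : Spor.Sheet X := by
  obtain ⟨e⟩ := KFacts.Baby.Sheet.exists_iso_of_isoB h
  exact Sheet.of_equiv e (sheet_model hi hn)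

end Cfsg.Agent.OddHalf.D4.Spor.Baby
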