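import Cfsg.Agent.OddHalf.D4.Spor.Baby.Model
import Cfsg.Agent.KFacts.Baby.RowB

/-!
# D4, sporadic components: the sheet of the Baby Monster, without hypotheses (helper667)
-/

set_option autoImplicit false

namespace Cfsg.Agent.OddHalf.D4.Spor.Baby.Final

/-- **The sheet of every group isomorphic to the Baby Monster.** -/
theorem sheet {X : Type*} [Group X] (h : Cfsg.Spor.IsoB X) : Cfsg.Agent.OddHalf.D4.Spor.Sheet X := by
  obtain ⟨e⟩ := Cfsg.Agent.KFacts.Baby.RowB.exists_iso h
  exact Cfsg.Agent.OddHalf.D4.Spor.Baby.Model.sheet_of_equiv e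

end Cfsg.Agent.OddHalf.D4.Spor.Baby.Final
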