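import Cfsg.Agent.OddHalf.D4.Spor.Baby.Main
import Cfsg.Agent.OddHalf.D4.Spor.LatFour
import Cfsg.Agent.KFacts.CoTwo.InnerB

/-!
# D4, sporadic components: the sheet of the model of the Baby Monster, without hypotheses (helper667)
-/

set_option autoImplicit false

namespace Cfsg.Agent.OddHalf.D4.Spor.Baby.Model

open Cfsg Cfsg.Agent.BabyM Cfsg.Agent.BabyM.Model Cfsg.Agent.BabyU.ClosModel Cfsg.Agent.BabyU.ClosLane
open Cfsg.Agent.KFacts.AutLarge Cfsg.Agent.KFacts.Baby Cfsg.Agent.KFacts.Baby.Fix Cfsg.Agent.BabyM.Conc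
open Cfsg.Agent.BabyM.CoTwoMod Cfsg.Agent.BabyM.Co2GenStd

theorem noTriple : BabyHyp.NoTriple l₀ :=
  fun g h => LatFour.noTriple GroupInst.dt_l₀ g h

/-- **The sheet of the model.** -/
theorem sheet_model : Spor.Sheet Inst.M.G :=
  Baby.sheet_model KFacts.CoTwo.InnerB.inner noTriple

/-- **The sheet of a group isomorphic to the model.** -/
theorem sheet_of_equiv {X : Type*} [Group X] (e : Inst.M.G ≃* X) : Spor.Sheet X :=
  Sheet.of_equiv e sheet_model

end Cfsg.Agent.OddHalf.D4.Spor.Baby.Model
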